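import Mathlib.RingTheory.AlgebraicIndependent.AlgebraicClosure
import Mathlib.RingTheory.AlgebraicIndependent.TranscendenceBasis
import Mathlib.FieldTheory.IntermediateField.Adjoin.Algebra
import Mathlib.FieldTheory.AlgebraicClosure
import Mathlib.RingTheory.Localization.Module
import Mathlib.LinearAlgebra.FreeModule.Finite.Basic
import Mathlib.LinearAlgebra.Dimension.Finite
import Mathlib.LinearAlgebra.Dimension.StrongRankCondition

/-!
# The algebraic part of a finitely generated field extension is finite
-/

universe u

open IntermediateField.algebraAdjoinAdjoin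

namespace Groth.Agent.NormFin18

theorem finite_algebraicClosure (K L : Type u) [Field K] [Field L] [Algebra K L] [Algebra.EssFiniteType K L] :
    Module.Finite K (algebraicClosure K L) := by
  classical
  obtain ⟨s, hs⟩ := exists_isTranscendenceBasis K L
  set x : s → L := Subtype.val
  let F := IntermediateField.adjoin K (Set.range x)
  haveI : Algebra.IsAlgebraic F L := hs.isAlgebraic_field
  haveI : Algebra.EssFiniteType F L := Algebra.EssFiniteType.of_comp K F L
  haveI : Module.Finite F L := Algebra.finite_of_essFiniteType_of_isAlgebraic
  have hM : AlgebraicIndependent (algebraicClosure K L) x := hs.1.algebraicClosure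
  have hbound : ∀ t : Finset (algebraicClosure K L),
      LinearIndependent K ((↑) : t → algebraicClosure K L) → t.card ≤ Module.finrank F L := by
    intro t ht
    have hR : LinearIndependent (Algebra.adjoin K (Set.range x)) (fun i : t => ((i.1 : algebraicClosure K L) : L)) := by
      rw [Fintype.linearIndependent_iff]
      intro g hg i
      have hg' : ∀ j, ∃ P : MvPolynomial s K, MvPolynomial.aeval x P = (g j : L) := fun j => by
        exact (Algebra.adjoin_range_eq_range_aeval K x).le (g j).2
      choose P hP using hg'
      let Q : MvPolynomial s (algebraicClosure K L) :=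
        ∑ j, MvPolynomial.C j.1 * MvPolynomial.map (algebraMap K (algebraicClosure K L)) (P j)
      have hQ : Q = 0 := hM.eq_zero_of_aeval_eq_zero Q (by
        rw [map_sum, ← hg]
        refine Finset.sum_congr rfl fun j _ => ?_
        rw [map_mul, MvPolynomial.aeval_C, MvPolynomial.aeval_map_algebraMap, hP, Subalgebra.smul_def, smul_eq_mul, mul_comm]
        rfl)
      have hcoeff : ∀ d, MvPolynomial.coeff d (P i) = 0 := fun d => by
        have h := congrArg (MvPolynomial.coeff d) hQ
        rw [MvPolynomial.coeff_sum, MvPolynomial.coeff_zero] at h
        refine Fintype.linearIndependent_iff.1 ht (fun j => MvPolynomial.coeff d (P j)) ?_ i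
        rw [← h]
        refine Finset.sum_congr rfl fun j _ => ?_
        rw [MvPolynomial.coeff_C_mul, MvPolynomial.coeff_map, Algebra.smul_def, mul_comm]
      have : P i = 0 := MvPolynomial.ext _ _ fun d => by rw [hcoeff d, MvPolynomial.coeff_zero]
      refine Subtype.ext ?_
      rw [← hP i, this, map_zero]; rfl
    have hF : LinearIndependent F (fun i : t => ((i.1 : algebraicClosure K L) : L)) :=
      (LinearIndependent.iff_fractionRing (Algebra.adjoin K (Set.range x)) F).1 hR
    simpa using hF.fintype_card_le_finrank
  haveI : Module.Free K (algebraicClosure K L) := Module.Free.of_divisionRing _ _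
  exact Module.rank_lt_aleph0_iff.1 (lt_of_le_of_lt (rank_le hbound) (Cardinal.natCast_lt_aleph0 ..))

end Groth.Agent.NormFin18
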