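import Groth.Prelude.Def_Found
import Groth.Agent.Lib.NormFin18.Field
import Mathlib.AlgebraicGeometry.Normalization
import Mathlib.AlgebraicGeometry.Morphisms.Finite
import Mathlib.AlgebraicGeometry.ResidueField
import Mathlib.AlgebraicGeometry.Properties
import Mathlib.RingTheory.RingHom.EssFiniteType
import Mathlib.RingTheory.Localization.FractionRing
import Mathlib.RingTheory.IntegralClosure.IsIntegralClosure.Basic
import Mathlib.Topology.LocallyFinite

/-!
# Finiteness of relative normalizations
-/

universe u

open CategoryTheory AlgebraicGeometry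

namespace Groth.Agent.NormFin18

/-- Over a Nagata ring, the integral closure in a finitely generated field extension is finite. -/
theorem finite_integralClosure_field (A L : Type u) [CommRing A] (hA : CAlg.IsNagata A) [Field L] [Algebra A L]
    [Algebra.EssFiniteType A L] : Module.Finite A (integralClosure A L) := by
  haveI := hA.1
  let p : Ideal A := RingHom.ker (algebraMap A L)
  haveI : p.IsPrime := RingHom.ker_isPrime _
  let B := A ⧸ p
  letI : Algebra B L := (RingHom.kerLift (algebraMap A L)).toAlgebra
  haveI : IsScalarTower A B L := IsScalarTower.of_algebraMap_eq fun _ => rfl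
  haveI : FaithfulSMul B L := (faithfulSMul_iff_algebraMap_injective _ _).2 (RingHom.kerLift_injective _)
  let K := FractionRing B
  letI : Algebra K L := FractionRing.liftAlgebra B L
  haveI : IsScalarTower B K L := FractionRing.isScalarTower_liftAlgebra B L
  haveI : Algebra.EssFiniteType B L := Algebra.EssFiniteType.of_comp A B L
  haveI : Algebra.EssFiniteType K L := Algebra.EssFiniteType.of_comp B K L
  let M := algebraicClosure K L
  haveI : Module.Finite K M := finite_algebraicClosure K L
  haveI : IsScalarTower B K M := inferInstance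
  haveI : Module.Finite B (integralClosure B M) := hA.2 p M inferInstance
  have hmem : ∀ y : integralClosure B L, (y : L) ∈ M := fun y => mem_algebraicClosure_iff'.2 (y.2.tower_top (A := K))
  let g : integralClosure B L →ₗ[B] integralClosure B M :=
    { toFun := fun y => ⟨⟨y, hmem y⟩,
        (isIntegral_algHom_iff (M.val.restrictScalars B) M.val.injective).1 y.2⟩
      map_add' := fun _ _ => rfl
      map_smul' := fun a y => Subtype.ext (Subtype.ext rfl) }
  haveI : IsNoetherian B (integralClosure B M) := isNoetherian_of_isNoetherianRing_of_finite B _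
  haveI : Module.Finite B (integralClosure B L) := Module.Finite.of_injective g fun a b h =>
    Subtype.ext (congrArg (fun z : integralClosure B M => ((z : M) : L)) h :)
  haveI : Module.Finite A (integralClosure B L) := Module.Finite.trans B _
  let g' : integralClosure A L →ₗ[A] integralClosure B L :=
    { toFun := fun y => ⟨y, y.2.tower_top⟩
      map_add' := fun _ _ => rfl
      map_smul' := fun a y => Subtype.ext rfl }
  haveI : IsNoetherian A (integralClosure B L) := isNoetherian_of_isNoetherianRing_of_finite A _
  exact Module.Finite.of_injective g' fun a b h => Subtype.ext (congrArg Subtype.val h :)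

variable {X S : Scheme.{u}} (f : X ⟶ S)

/-- The ring map from the sections over an open to the residue field of a point over it. -/
noncomputable def toResidue (U : S.Opens) (x : X) (hx : f x ∈ U) : Γ(S, U) →+* X.residueField x :=
  (X.evaluation (f ⁻¹ᵁ U) x hx).hom.comp (f.app U).hom

/-- The normalization is finite if integral closures in residue fields of maximal points are finite. -/
theorem isFinite_fromNormalization [QuasiCompact f] [QuasiSeparated f] [IsReduced X]
    (hfin : LocallyFinite (fun Z : ↥(irreducibleComponents ↥X) => (Z : Set ↥X)))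
    (hN : ∀ U : S.Opens, IsAffineOpen U → IsNoetherianRing Γ(S, U))
    (h : ∀ (U : S.Opens), IsAffineOpen U → ∀ (x : X) (hx : f x ∈ U), closure {x} ∈ irreducibleComponents ↥X →
      letI := (toResidue f U x hx).toAlgebra
      Module.Finite Γ(S, U) (integralClosure Γ(S, U) (X.residueField x))) :
    IsFinite f.fromNormalization := by
  refine { finite_app := fun U hU => ?_ }
  letI := (f.app U).hom.toAlgebra
  haveI := hN U hU
  let W := f ⁻¹ᵁ U
  have hW : IsCompact (W : Set X) := f.isCompact_preimage hU.isCompact
  let ι := {Z : ↥(irreducibleComponents ↥X) | ((Z : Set X) ∩ W).Nonempty}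
  haveI : Finite ι := (hfin.finite_nonempty_inter_compact hW).to_subtype
  have hgen : ∀ Z : ι, ∃ x : X, f x ∈ U ∧ closure {x} = (Z.1 : Set X) := fun Z => by
    obtain ⟨x, hx⟩ := QuasiSober.sober Z.1.2.1 (isClosed_of_mem_irreducibleComponents _ Z.1.2)
    exact ⟨x, (hx.mem_open_set_iff W.2).2 Z.2, hx⟩
  choose x hxU hx using hgen
  letI alg : ∀ Z : ι, Algebra Γ(S, U) (X.residueField (x Z)) := fun Z => (toResidue f U (x Z) (hxU Z)).toAlgebra
  haveI : ∀ Z : ι, Module.Finite Γ(S, U) (integralClosure Γ(S, U) (X.residueField (x Z))) := fun Z =>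
    h U hU (x Z) (hxU Z) (hx Z ▸ Z.1.2)
  let ev : ∀ Z : ι, Γ(X, W) →ₐ[Γ(S, U)] X.residueField (x Z) := fun Z =>
    { (X.evaluation W (x Z) (hxU Z)).hom with commutes' := fun _ => rfl }
  let g : integralClosure Γ(S, U) Γ(X, W) →ₗ[Γ(S, U)] ((Z : ι) → integralClosure Γ(S, U) (X.residueField (x Z))) :=
    LinearMap.pi fun Z =>
      (((ev Z).comp (integralClosure Γ(S, U) Γ(X, W)).val).codRestrict _ fun y => y.2.map (ev Z)).toLinearMap
  have hinj : Function.Injective g := by
    rw [injective_iff_map_eq_zero]
    intro y hy
    refine Subtype.ext ?_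
    rw [ZeroMemClass.coe_zero, ← basicOpen_eq_bot_iff, eq_bot_iff]
    intro z hz
    have hzW : z ∈ W := X.basicOpen_le _ hz
    obtain ⟨C, hC, hzC⟩ : ∃ C ∈ irreducibleComponents ↥X, z ∈ C :=
      ⟨irreducibleComponent z, irreducibleComponent_mem_irreducibleComponents z, mem_irreducibleComponent⟩
    let Z : ι := ⟨⟨C, hC⟩, ⟨z, hzC, hzW⟩⟩
    have hxz : x Z ∈ X.basicOpen (y : Γ(X, W)) :=
      ((show IsGenericPoint (x Z) C from hx Z).mem_open_set_iff (X.basicOpen _).2).2 ⟨z, hzC, hz⟩
    replace hxz := (X.mem_basicOpen (y : Γ(X, W)) (x Z) (hxU Z)).1 hxz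
    have h0 : X.evaluation W (x Z) (hxU Z) (y : Γ(X, W)) = 0 := congrArg Subtype.val (congrFun hy Z)
    exact absurd (hxz.map (X.residue (x Z)).hom) (fun hu => not_isUnit_zero (h0 ▸ (hu :
      IsUnit (X.evaluation W (x Z) (hxU Z) (y : Γ(X, W))))))
  haveI : Module.Finite Γ(S, U) (integralClosure Γ(S, U) Γ(X, W)) := Module.Finite.of_injective g hinj
  rw [f.fromNormalization_app hU, CommRingCat.hom_comp]
  exact RingHom.Finite.comp (RingHom.Finite.of_surjective _
    (ConcreteCategory.bijective_of_isIso (f.normalizationObjIso hU).inv).2)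
    (RingHom.finite_algebraMap.2 ‹_›)

end Groth.Agent.NormFin18
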