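import Groth.Agent.Lib.NormFin18.Finite
import Groth.Agent.Lib.PtSet.Components
import Groth.Agent.Lib.IntClosFin.Main
import Mathlib.AlgebraicGeometry.Morphisms.FiniteType
import Mathlib.AlgebraicGeometry.Noetherian

/-!
# Finiteness of normalizations over Nagata bases
-/

universe u

open CategoryTheory AlgebraicGeometry

namespace Groth.Agent.NormFin18

variable {X S : Scheme.{u}} (f : X ⟶ S)

theorem essFiniteType_toResidue {U : S.Opens} (hU : IsAffineOpen U) (x : X) (hx : f x ∈ U)
    (hres : (f.residueFieldMap x).hom.EssFiniteType) : (toResidue f U x hx).EssFiniteType := by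
  have e : toResidue f U x hx = (f.residueFieldMap x).hom.comp ((S.residue (f x)).hom.comp (S.presheaf.germ U (f x) hx).hom) := by
    refine RingHom.ext fun a => ?_
    exact (Scheme.evaluation_naturality_apply f x hx a).symm
  rw [e]
  refine RingHom.EssFiniteType.comp (RingHom.EssFiniteType.comp ?_
    (RingHom.FiniteType.of_surjective _ (S.residue_surjective _)).essFiniteType) hres
  letI := S.presheaf.algebra_section_stalk (U := U) ⟨f x, hx⟩
  haveI := hU.isLocalization_stalk ⟨f x, hx⟩
  exact RingHom.essFiniteType_algebraMap.2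
    (Algebra.EssFiniteType.of_isLocalization _ (hU.primeIdealOf ⟨f x, hx⟩).asIdeal.primeCompl)

theorem isFinite_of_nagata [QuasiCompact f] [QuasiSeparated f] [IsReduced X]
    (hS : ∀ U : S.affineOpens, CAlg.IsNagata Γ(S, U))
    (hfin : LocallyFinite (fun Z : ↥(irreducibleComponents ↥X) => (Z : Set ↥X)))
    (hres : ∀ x : X, closure {x} ∈ irreducibleComponents ↥X → (f.residueFieldMap x).hom.EssFiniteType) :
    IsFinite f.fromNormalization := by
  refine isFinite_fromNormalization f hfin (fun U hU => (hS ⟨U, hU⟩).1) fun U hU x hx hc => ?_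
  letI := (toResidue f U x hx).toAlgebra
  haveI : Algebra.EssFiniteType Γ(S, U) (X.residueField x) :=
    RingHom.essFiniteType_algebraMap.1 (essFiniteType_toResidue f hU x hx (hres x hc))
  exact finite_integralClosure_field _ _ (hS ⟨U, hU⟩)

theorem essFiniteType_residueFieldMap [LocallyOfFiniteType f] (x : X) :
    (f.residueFieldMap x).hom.EssFiniteType := by
  have h : ((f.residueFieldMap x).hom.comp (S.residue (f x)).hom).EssFiniteType := by
    rw [← CommRingCat.hom_comp, Scheme.residue_residueFieldMap, CommRingCat.hom_comp]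
    exact RingHom.EssFiniteType.comp (LocallyOfFiniteType.stalkMap f x)
      (RingHom.FiniteType.of_surjective _ (X.residue_surjective _)).essFiniteType
  letI : Algebra (S.presheaf.stalk (f x)) (S.residueField (f x)) := (S.residue (f x)).hom.toAlgebra
  letI : Algebra (S.residueField (f x)) (X.residueField x) := (f.residueFieldMap x).hom.toAlgebra
  letI : Algebra (S.presheaf.stalk (f x)) (X.residueField x) :=
    ((f.residueFieldMap x).hom.comp (S.residue (f x)).hom).toAlgebra
  haveI : IsScalarTower (S.presheaf.stalk (f x)) (S.residueField (f x)) (X.residueField x) :=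
    IsScalarTower.of_algebraMap_eq fun _ => rfl
  haveI : Algebra.EssFiniteType (S.presheaf.stalk (f x)) (X.residueField x) :=
    RingHom.essFiniteType_algebraMap.1 h
  exact RingHom.essFiniteType_algebraMap.2
    (Algebra.EssFiniteType.of_comp (S.presheaf.stalk (f x)) (S.residueField (f x)) (X.residueField x))

theorem locallyFinite_components (X : Scheme.{u}) [IsLocallyNoetherian X] :
    LocallyFinite (fun Z : ↥(irreducibleComponents ↥X) => (Z : Set ↥X)) := by
  refine PtSet.locallyFinite_components fun x => ?_
  obtain ⟨U, hU, hxU, -⟩ := exists_isAffineOpen_mem_and_subset (show x ∈ (⊤ : X.Opens) from trivial)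
  haveI : IsNoetherianRing Γ(X, U) := IsLocallyNoetherian.component_noetherian ⟨U, hU⟩
  exact ⟨U, U.2.mem_nhds hxU, noetherianSpace_of_isAffineOpen U hU⟩

theorem isFinite_of_nagata_of_finiteType [LocallyOfFiniteType f] [QuasiCompact f] [QuasiSeparated f] [IsReduced X]
    (hS : ∀ U : S.affineOpens, CAlg.IsNagata Γ(S, U)) : IsFinite f.fromNormalization := by
  haveI : IsLocallyNoetherian S :=
    isLocallyNoetherian_of_affine_cover (iSup_affineOpens_eq_top S) fun U => (hS U).1
  haveI : IsLocallyNoetherian X := LocallyOfFiniteType.isLocallyNoetherian f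
  exact isFinite_of_nagata f hS (locallyFinite_components X) fun x _ => essFiniteType_residueFieldMap f x

theorem isNagata_of_finiteType (k A : Type u) [Field k] [CommRing A] [Algebra k A] [Algebra.FiniteType k A] :
    CAlg.IsNagata A := by
  refine ⟨Algebra.FiniteType.isNoetherianRing k A, fun p _ L _ _ _ _ hL => ?_⟩
  haveI : Algebra.FiniteType k (A ⧸ p) :=
    Algebra.FiniteType.of_surjective (Ideal.Quotient.mkₐ k p) Ideal.Quotient.mk_surjective
  haveI := hL
  exact IntClosFin.finite_integralClosure k (A ⧸ p) (FractionRing (A ⧸ p)) L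

theorem isNagata_sections {k : Type u} [Field k] (q : S ⟶ Spec (CommRingCat.of k)) [LocallyOfFiniteType q]
    (U : S.affineOpens) : CAlg.IsNagata Γ(S, U) := by
  letI : Algebra k Γ(S, U) := ((Scheme.ΓSpecIso (CommRingCat.of k)).inv ≫ q.appLE ⊤ U le_top).hom.toAlgebra
  haveI : Algebra.FiniteType k Γ(S, U) :=
    RingHom.FiniteType.comp (q.finiteType_appLE (isAffineOpen_top _) U.2 _)
      (RingHom.FiniteType.of_surjective _ (Scheme.ΓSpecIso (CommRingCat.of k)).symm.commRingCatIsoToRingEquiv.surjective)
  exact isNagata_of_finiteType k _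

end Groth.Agent.NormFin18
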