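import Groth.Agent.Lib.CurveNF.Basic
import Mathlib.RingTheory.Finiteness.Basic

/-!
# A finite normalization in the function field is an isomorphism over a nonempty open
-/

universe u

open CategoryTheory AlgebraicGeometry IsLocalRing

namespace Groth.Agent.NormFin18

variable {X : Scheme.{u}} [IsIntegral X]
  {g : Spec (CommRingCat.of X.functionField) ⟶ X}
  (hg : g = Spec.map (CommRingCat.ofHom (RingHom.id X.functionField)) ≫ X.fromSpecStalk (genericPoint X))
  [QuasiCompact g] [QuasiSeparated g]

include hg in
theorem exists_isIso_restrict [IsFinite g.fromNormalization] :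
    ∃ V : X.Opens, (V : Set X).Nonempty ∧ IsIso (g.fromNormalization ∣_ V) := by
  classical
  obtain ⟨V, hV, hξ, -⟩ := exists_isAffineOpen_mem_and_subset (U := (⊤ : X.Opens)) (x := genericPoint X) trivial
  have hVne : (V : Set X).Nonempty := ⟨_, hξ⟩
  haveI : Nonempty V := ⟨⟨_, hξ⟩⟩
  haveI := functionField_isFractionRing_of_isAffineOpen X V hV
  obtain ⟨hinj, hrange⟩ := CurveNF.toK_injective_and_range hg hVne hV
  letI := (g.fromNormalization.app V).hom.toAlgebra
  haveI : Module.Finite Γ(X, V) Γ(g.normalization, g.fromNormalization ⁻¹ᵁ V) :=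
    g.fromNormalization.finite_app V hV
  obtain ⟨T, hT⟩ := (Module.Finite.fg_top (R := Γ(X, V)) (M := Γ(g.normalization, g.fromNormalization ⁻¹ᵁ V)))
  let tK : Γ(g.normalization, g.fromNormalization ⁻¹ᵁ V) →ₗ[Γ(X, V)] X.functionField :=
    { toFun := CurveNF.toK hg hVne
      map_add' := map_add _
      map_smul' := fun a b => by
        rw [RingHom.id_apply, Algebra.smul_def, map_mul]
        exact congrArg (· * _) (CurveNF.toK_app hg hVne a) }
  obtain ⟨⟨s, hs0⟩, hsT⟩ := IsLocalization.exist_integer_multiples_of_finset (nonZeroDivisors Γ(X, V))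
    (T.image tK)
  have hall : ∀ b, ∃ a : Γ(X, V), algebraMap Γ(X, V) X.functionField a = s • tK b := by
    intro b
    have hb : b ∈ Submodule.span Γ(X, V) (T : Set _) := hT ▸ Submodule.mem_top
    induction hb using Submodule.span_induction with
    | mem x hx => exact hsT _ (Finset.mem_image_of_mem _ hx)
    | zero => exact ⟨0, by rw [map_zero, map_zero, smul_zero]⟩
    | add x y _ _ ihx ihy =>
      obtain ⟨a, ha⟩ := ihx
      obtain ⟨a', ha'⟩ := ihy
      exact ⟨a + a', by rw [map_add, ha, ha', map_add, smul_add]⟩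
    | smul c x _ ih =>
      obtain ⟨a, ha⟩ := ih
      exact ⟨c * a, by rw [map_mul, ha, map_smul, smul_comm, ← Algebra.smul_def]⟩
  have hs : algebraMap Γ(X, V) X.functionField s ≠ 0 :=
    IsFractionRing.to_map_ne_zero_of_mem_nonZeroDivisors hs0
  let W := X.basicOpen s
  have hWV : W ≤ V := X.basicOpen_le s
  have hW : IsAffineOpen W := hV.basicOpen s
  have hξW : genericPoint X ∈ W := by
    rw [Scheme.mem_basicOpen _ _ _ hξ]
    exact isUnit_iff_ne_zero.2 hs
  have hWne : (W : Set X).Nonempty := ⟨_, hξW⟩
  haveI : Nonempty W := ⟨⟨_, hξW⟩⟩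
  haveI := functionField_isFractionRing_of_isAffineOpen X W hW
  obtain ⟨hinjW, -⟩ := CurveNF.toK_injective_and_range hg hWne hW
  letI : Algebra Γ(X, V) Γ(X, W) := (X.presheaf.map (homOfLE hWV).op).hom.toAlgebra
  haveI : IsLocalization.Away s Γ(X, W) := hV.isLocalization_basicOpen s
  haveI : IsScalarTower Γ(X, V) Γ(X, W) X.functionField := IsScalarTower.of_algebraMap_eq fun a =>
    (X.presheaf.germ_res_apply (homOfLE hWV) (genericPoint X) hξW a).symm
  refine ⟨W, hWne, ?_⟩
  haveI : IsAffine W.toScheme := hW
  haveI : IsAffine (g.fromNormalization ⁻¹ᵁ W).toScheme := hW.preimage _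
  have hbij : Function.Bijective (g.fromNormalization.app W).hom := by
    constructor
    · intro a b hab
      have := congrArg (CurveNF.toK hg hWne) hab
      rw [CurveNF.toK_app, CurveNF.toK_app] at this
      exact IsFractionRing.injective Γ(X, W) X.functionField this
    · intro σ
      have hint : IsIntegral Γ(X, W) (CurveNF.toK hg hWne σ) := by
        obtain ⟨p, hm, hp⟩ := g.fromNormalization.isIntegral_app W hW σ
        refine ⟨p, hm, ?_⟩
        have h := congrArg (CurveNF.toK hg hWne) hp
        rw [map_zero, Polynomial.hom_eval₂] at h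
        rw [← h]
        congr 1
        exact RingHom.ext fun a => (CurveNF.toK_app hg hWne a).symm
      obtain ⟨⟨m, hm⟩, hmint⟩ := IsIntegral.exists_multiple_integral_of_isLocalization
        (Submonoid.powers s) (CurveNF.toK hg hWne σ) hint
      obtain ⟨b, hb⟩ := hrange _ hmint
      obtain ⟨a, ha⟩ := hall b
      obtain ⟨n, rfl⟩ := hm
      obtain ⟨v, hv⟩ := (IsLocalization.map_units Γ(X, W) (⟨s ^ (n + 1), n + 1, rfl⟩ : Submonoid.powers s)).exists_right_inv
      refine ⟨algebraMap Γ(X, V) Γ(X, W) a * v, hinjW ?_⟩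
      rw [CurveNF.toK_app]
      show algebraMap Γ(X, W) X.functionField (algebraMap Γ(X, V) Γ(X, W) a * v) = _
      have hv' := congrArg (algebraMap Γ(X, W) X.functionField) hv
      rw [map_mul, map_one] at hv'
      rw [map_mul, ← IsScalarTower.algebraMap_apply, ha, Algebra.smul_def]
      rw [← IsScalarTower.algebraMap_apply] at hv'
      have hb' : tK b = algebraMap Γ(X, V) X.functionField (s ^ n) * CurveNF.toK hg hWne σ := by
        rw [show tK b = CurveNF.toK hg hVne b from rfl, hb, Submonoid.smul_def, Algebra.smul_def]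
      rw [hb', show algebraMap Γ(X, V) X.functionField s *
        (algebraMap Γ(X, V) X.functionField (s ^ n) * CurveNF.toK hg hWne σ) * algebraMap Γ(X, W) X.functionField v =
        CurveNF.toK hg hWne σ * (algebraMap Γ(X, V) X.functionField (s ^ (n + 1)) * algebraMap Γ(X, W) X.functionField v)
        from by rw [pow_succ, map_mul]; ring]
      rw [show algebraMap Γ(X, V) X.functionField (s ^ (n + 1)) * algebraMap Γ(X, W) X.functionField v = 1 from hv', mul_one]
  haveI : IsIso (g.fromNormalization ∣_ W).appTop := by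
    haveI : IsIso (g.fromNormalization.app W) := (ConcreteCategory.isIso_iff_bijective _).2 hbij
    rw [Scheme.Hom.appTop, morphismRestrict_app]
    have e : W.ι ''ᵁ ⊤ = W := W.ι_image_top
    have h2 : IsIso (g.fromNormalization.app (W.ι ''ᵁ ⊤)) := by rw [e]; infer_instance
    haveI hm : ∀ {A B : g.normalization.Opens} (h : B = A), IsIso (g.normalization.presheaf.map (eqToHom h).op) := fun h => by
      subst h; rw [eqToHom_refl, op_id, CategoryTheory.Functor.map_id]; infer_instance
    exact @IsIso.comp_isIso _ _ _ _ _ _ _ h2 (hm _)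
  rw [← MorphismProperty.isomorphisms.iff,
    MorphismProperty.arrow_mk_iso_iff (MorphismProperty.isomorphisms Scheme.{u})
      (arrowIsoSpecΓOfIsAffine (g.fromNormalization ∣_ W))]
  exact (inferInstance : IsIso (Spec.map (g.fromNormalization ∣_ W).appTop))

end Groth.Agent.NormFin18
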