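import Groth.Agent.Lib.NormFin18.Finite
import Mathlib.RingTheory.DedekindDomain.IntegralClosure
import Mathlib.RingTheory.Localization.Integral

/-!
# Nagata rings: Dedekind domains of characteristic zero, rings of fractions
-/

universe u

namespace Groth.Agent.NormFin18

theorem finite_integralClosure_of_isField (R L : Type u) [CommRing R] [IsDomain R] (hR : IsField R) [Field L]
    [Algebra R L] [Algebra (FractionRing R) L] [IsScalarTower R (FractionRing R) L]
    [FiniteDimensional (FractionRing R) L] : Module.Finite R (integralClosure R L) := by
  have hs : Function.Surjective (algebraMap R (FractionRing R)) := fun z => by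
    obtain ⟨a, b, hb, rfl⟩ := IsFractionRing.div_surjective R z
    obtain ⟨c, hc⟩ := hR.mul_inv_cancel (nonZeroDivisors.ne_zero hb)
    refine ⟨a * c, ?_⟩
    rw [eq_div_iff (IsFractionRing.to_map_ne_zero_of_mem_nonZeroDivisors hb), ← map_mul, mul_assoc,
      mul_comm c, hc, mul_one]
  haveI : Module.Finite R (FractionRing R) := Module.Finite.of_surjective (Algebra.linearMap R (FractionRing R)) hs
  haveI : Module.Finite R L := Module.Finite.trans (FractionRing R) L
  haveI : IsNoetherianRing R := by letI := hR.toField; infer_instance
  exact Module.Finite.of_injective (integralClosure R L).val.toLinearMap Subtype.val_injective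

theorem isN2_of_isField (R : Type u) [CommRing R] [IsDomain R] (hR : IsField R) : CAlg.IsN2 R :=
  fun L _ _ _ _ hL => haveI := hL; finite_integralClosure_of_isField R L hR

theorem isNagata_of_isDedekindDomain_charZero (A : Type u) [CommRing A] [IsDedekindDomain A] [CharZero A] :
    CAlg.IsNagata A := by
  refine ⟨inferInstance, fun p _ => ?_⟩
  rcases eq_or_ne p ⊥ with rfl | hp
  · intro L _ _ _ _ hL
    haveI := hL
    haveI : IsIntegrallyClosed (A ⧸ (⊥ : Ideal A)) :=
      IsIntegrallyClosed.of_equiv (RingEquiv.quotientBot A).symm
    haveI : IsNoetherianRing (A ⧸ (⊥ : Ideal A)) := inferInstance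
    haveI : CharZero (A ⧸ (⊥ : Ideal A)) :=
      charZero_of_injective_ringHom (RingEquiv.quotientBot A).symm.injective (f := (RingEquiv.quotientBot A).symm.toRingHom)
    haveI : CharZero (FractionRing (A ⧸ (⊥ : Ideal A))) :=
      charZero_of_injective_algebraMap (IsFractionRing.injective (A ⧸ (⊥ : Ideal A)) _)
    haveI : Algebra.IsSeparable (FractionRing (A ⧸ (⊥ : Ideal A))) L := inferInstance
    exact IsIntegralClosure.finite (A ⧸ (⊥ : Ideal A)) (FractionRing (A ⧸ (⊥ : Ideal A))) L _
  · haveI : p.IsMaximal := Ideal.IsPrime.isMaximal inferInstance hp
    exact isN2_of_isField _ ((Ideal.Quotient.maximal_ideal_iff_isField_quotient p).1 inferInstance)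

theorem isNagata_localization (A : Type u) [CommRing A] (hA : CAlg.IsNagata A) (S : Submonoid A) :
    CAlg.IsNagata (Localization S) := by
  haveI := hA.1
  haveI hnoeth : IsNoetherianRing (Localization S) := IsLocalization.isNoetherianRing S _ inferInstance
  refine ⟨hnoeth, fun P _ L _ _ _ _ hL => ?_⟩
  haveI := hL
  let R := Localization S ⧸ P
  let K := FractionRing R
  letI : Algebra (Localization S) L := ((algebraMap R L).comp (Ideal.Quotient.mk P)).toAlgebra
  haveI : IsScalarTower (Localization S) R L := IsScalarTower.of_algebraMap_eq fun _ => rfl
  letI : Algebra A L := ((algebraMap (Localization S) L).comp (algebraMap A (Localization S))).toAlgebra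
  haveI : IsScalarTower A (Localization S) L := IsScalarTower.of_algebraMap_eq fun _ => rfl
  haveI : Algebra.EssFiniteType A (Localization S) := Algebra.EssFiniteType.of_isLocalization _ S
  haveI : Algebra.EssFiniteType (Localization S) R := inferInstance
  haveI : Algebra.EssFiniteType R L := by
    haveI : Algebra.EssFiniteType R K := Algebra.EssFiniteType.of_isLocalization _ (nonZeroDivisors R)
    exact Algebra.EssFiniteType.comp R K L
  haveI : Algebra.EssFiniteType (Localization S) L := Algebra.EssFiniteType.comp _ R L
  haveI : Algebra.EssFiniteType A L := Algebra.EssFiniteType.comp A (Localization S) L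
  have hC : Module.Finite A (integralClosure A L) := finite_integralClosure_field A L hA
  obtain ⟨t, ht⟩ := (Module.Finite.fg_top (R := A) (M := integralClosure A L))
  let g : integralClosure A L →ₗ[A] integralClosure (Localization S) L :=
    { toFun := fun y => ⟨y, y.2.tower_top⟩
      map_add' := fun _ _ => rfl
      map_smul' := fun a y => Subtype.ext rfl }
  haveI : Module.Finite (Localization S) (integralClosure (Localization S) L) := by
    classical
    refine ⟨⟨t.image g, eq_top_iff.2 fun y _ => ?_⟩⟩
    obtain ⟨⟨m, hm⟩, hmint⟩ := IsIntegral.exists_multiple_integral_of_isLocalization S (y : L) y.2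
    obtain ⟨v, hv⟩ := (IsLocalization.map_units (Localization S) (⟨m, hm⟩ : S)).exists_left_inv
    have hy : y = v • g ⟨m • (y : L), hmint⟩ := Subtype.ext (by
      show (y : L) = v • (m • (y : L))
      rw [← algebraMap_smul (Localization S) m (y : L), smul_smul, hv, one_smul])
    rw [hy]
    refine Submodule.smul_mem _ _ ?_
    rw [Finset.coe_image]
    refine Submodule.span_le_restrictScalars A (Localization S) _ ?_
    rw [← Submodule.map_span, ht]
    exact Submodule.mem_map_of_mem Submodule.mem_top
  let g' : integralClosure R L →ₗ[Localization S] integralClosure (Localization S) L :=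
    { toFun := fun y => ⟨y, by
        haveI : Algebra.IsIntegral (Localization S) R := inferInstance
        exact isIntegral_trans _ y.2⟩
      map_add' := fun _ _ => rfl
      map_smul' := fun a y => Subtype.ext rfl }
  haveI : IsNoetherian (Localization S) (integralClosure (Localization S) L) :=
    isNoetherian_of_isNoetherianRing_of_finite _ _
  haveI : Module.Finite (Localization S) (integralClosure R L) :=
    Module.Finite.of_injective g' fun a b h => Subtype.ext (congrArg Subtype.val h :)
  exact Module.Finite.of_restrictScalars_finite (Localization S) R _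

end Groth.Agent.NormFin18
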