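import Groth.Agent.Lib.CurveNF.Basic

/-!
# Finiteness of the normalization in an extension of the function field
-/

universe u

open CategoryTheory AlgebraicGeometry IsLocalRing Groth.Agent.CurveNF

namespace Groth.Agent.NormFin18

variable {X : Scheme.{u}} [IsIntegral X] {K : Type u} [Field K] {φ : X.functionField →+* K}
  {g : Spec (CommRingCat.of K) ⟶ X}
  (hg : g = Spec.map (CommRingCat.ofHom φ) ≫ X.fromSpecStalk (genericPoint X))
  [QuasiCompact g] [QuasiSeparated g]

include hg in
theorem isFinite_fromNormalization_of_finite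
    (h : ∀ (V : X.Opens) (hV : (V : Set X).Nonempty), IsAffineOpen V →
      letI := (φ.comp (X.presheaf.germ V (genericPoint X) (CurveNF.generic_mem hV)).hom).toAlgebra
      Module.Finite Γ(X, V) (integralClosure Γ(X, V) K)) : IsFinite g.fromNormalization := by
  refine { finite_app := fun V hA => ?_ }
  rcases Set.eq_empty_or_nonempty (V : Set X) with hV | hV
  · have hbot : g.fromNormalization ⁻¹ᵁ V = ⊥ := by
      ext x
      simp only [TopologicalSpace.Opens.coe_bot, Set.mem_empty_iff_false, iff_false]
      intro hx
      exact (Set.eq_empty_iff_forall_notMem.1 hV) (g.fromNormalization x) hx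
    haveI : Subsingleton Γ(g.normalization, g.fromNormalization ⁻¹ᵁ V) := by rw [hbot]; infer_instance
    exact RingHom.Finite.of_surjective _ fun b => ⟨0, Subsingleton.elim _ _⟩
  obtain ⟨hinj, hrange⟩ := toK_injective_and_range hg hV hA
  letI : Algebra Γ(X, V) K := (φ.comp (X.presheaf.germ V (genericPoint X) (generic_mem hV)).hom).toAlgebra
  haveI : Module.Finite Γ(X, V) (integralClosure Γ(X, V) K) := h V hV hA
  letI : Algebra Γ(X, V) Γ(g.normalization, g.fromNormalization ⁻¹ᵁ V) :=
    (g.fromNormalization.app V).hom.toAlgebra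
  choose σ hσ using fun c : integralClosure Γ(X, V) K => hrange c.1 c.2
  let L : integralClosure Γ(X, V) K →ₗ[Γ(X, V)] Γ(g.normalization, g.fromNormalization ⁻¹ᵁ V) :=
    { toFun := σ
      map_add' := fun a b => hinj (by rw [map_add, hσ, hσ, hσ]; rfl)
      map_smul' := fun a b => hinj (by
        rw [hσ, RingHom.id_apply, Algebra.smul_def, Algebra.smul_def, map_mul, hσ]
        exact congrArg (· * (b : K)) (toK_app hg hV a).symm) }
  refine Module.Finite.of_surjective L fun s => ?_
  have hint : IsIntegral Γ(X, V) (toK hg hV s) := by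
    obtain ⟨p, hm, hp⟩ := g.fromNormalization.isIntegral_app V hA s
    refine ⟨p, hm, ?_⟩
    have h := congrArg (toK hg hV) hp
    rw [map_zero, Polynomial.hom_eval₂] at h
    rw [← h]
    congr 1
    exact RingHom.ext fun a => (toK_app hg hV a).symm
  exact ⟨⟨_, hint⟩, hinj (hσ _)⟩

end Groth.Agent.NormFin18
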